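import Mathlib.Algebra.Homology.HomotopyCategory.Plus

/-!
# The subcategories of bounded above and bounded objects of the homotopy category
-/

universe v u

open CategoryTheory Limits Pretriangulated
open scoped ZeroObject

namespace Groth.Agent.Lib.HtpyCat.Bounded

variable {V : Type u} [Category.{v} V] [Preadditive V] [HasBinaryBiproducts V]

lemma isStrictlyLE_mappingCone {K L : CochainComplex V ℤ} (f : K ⟶ L)
    (n₁ n₂ n : ℤ) [K.IsStrictlyLE n₁] [L.IsStrictlyLE n₂] (hn₁ : n₁ ≤ n + 1) (hn₂ : n₂ ≤ n) :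
    (CochainComplex.mappingCone f).IsStrictlyLE n := by
  rw [CochainComplex.isStrictlyLE_iff]
  intro i hi
  simp only [CochainComplex.mappingCone.isZero_X_iff]
  exact ⟨K.isZero_of_isStrictlyLE n₁ _ (by omega), L.isZero_of_isStrictlyLE n₂ _ (by omega)⟩

/-- Bounded above. -/
abbrev minusP : ObjectProperty (HomotopyCategory V (ComplexShape.up ℤ)) :=
  fun K => ∃ n : ℤ, CochainComplex.IsStrictlyLE K.as n

/-- Bounded. -/
abbrev bddP : ObjectProperty (HomotopyCategory V (ComplexShape.up ℤ)) :=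
  fun K => ∃ a b : ℤ, CochainComplex.IsStrictlyGE K.as a ∧ CochainComplex.IsStrictlyLE K.as b

variable [HasZeroObject V]

set_option backward.isDefEq.respectTransparency false in
lemma isTriangulated_minus : (minusP (V := V)).IsTriangulated := by
  have : (minusP (V := V)).ContainsZero :=
    ⟨(HomotopyCategory.quotient _ _).obj 0, Functor.map_isZero _ (isZero_zero _),
      0, inferInstanceAs (CochainComplex.IsStrictlyLE (0 : CochainComplex V ℤ) 0)⟩
  have : (minusP (V := V)).IsStableUnderShift ℤ := ⟨fun n => ⟨fun K hK => by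
    obtain ⟨K : CochainComplex _ _, rfl⟩ := K.quotient_obj_surjective
    obtain ⟨q, hq⟩ := hK
    have hq' : K.IsStrictlyLE q := hq
    rw [ObjectProperty.prop_shift_iff, HomotopyCategory.shift_quotient_obj]
    exact ⟨q - n, K.isStrictlyLE_shift q n (q - n) (by omega)⟩⟩⟩
  have : (minusP (V := V)).IsTriangulatedClosed₃ := ⟨fun T hT ⟨n₁, h₁⟩ ⟨n₂, h₂⟩ => by
    obtain ⟨f : T.obj₁.as ⟶ T.obj₂.as, hf⟩ :=
      (HomotopyCategory.quotient _ _).map_surjective T.mor₁
    refine ⟨_, ?_, ⟨Triangle.π₃.mapIso (isoTriangleOfIso₁₂ T _ hT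
      (HomotopyCategory.mappingCone_triangleh_distinguished f)
      (Iso.refl _) (Iso.refl _) ?_)⟩⟩
    · exact ⟨max n₁ n₂, isStrictlyLE_mappingCone f n₁ n₂ _ (by omega) (by omega)⟩
    · simp only [Iso.refl_hom, Category.comp_id, Category.id_comp]
      exact hf.symm⟩
  exact { toIsTriangulatedClosed₂ := .of_isTriangulatedClosed₃ }

set_option backward.isDefEq.respectTransparency false in
lemma isTriangulated_bdd : (bddP (V := V)).IsTriangulated := by
  have : (bddP (V := V)).ContainsZero :=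
    ⟨(HomotopyCategory.quotient _ _).obj 0, Functor.map_isZero _ (isZero_zero _), 0, 0,
      inferInstanceAs (CochainComplex.IsStrictlyGE (0 : CochainComplex V ℤ) 0),
      inferInstanceAs (CochainComplex.IsStrictlyLE (0 : CochainComplex V ℤ) 0)⟩
  have : (bddP (V := V)).IsStableUnderShift ℤ := ⟨fun n => ⟨fun K hK => by
    obtain ⟨K : CochainComplex _ _, rfl⟩ := K.quotient_obj_surjective
    obtain ⟨a, b, ha, hb⟩ := hK
    have ha' : K.IsStrictlyGE a := ha
    have hb' : K.IsStrictlyLE b := hb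
    rw [ObjectProperty.prop_shift_iff, HomotopyCategory.shift_quotient_obj]
    exact ⟨a - n, b - n, K.isStrictlyGE_shift a n (a - n) (by omega),
      K.isStrictlyLE_shift b n (b - n) (by omega)⟩⟩⟩
  have : (bddP (V := V)).IsTriangulatedClosed₃ := ⟨fun T hT ⟨a₁, b₁, ha₁, hb₁⟩ ⟨a₂, b₂, ha₂, hb₂⟩ => by
    obtain ⟨f : T.obj₁.as ⟶ T.obj₂.as, hf⟩ :=
      (HomotopyCategory.quotient _ _).map_surjective T.mor₁
    refine ⟨_, ?_, ⟨Triangle.π₃.mapIso (isoTriangleOfIso₁₂ T _ hT
      (HomotopyCategory.mappingCone_triangleh_distinguished f)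
      (Iso.refl _) (Iso.refl _) ?_)⟩⟩
    · exact ⟨min (a₁ - 1) a₂, max b₁ b₂,
        CochainComplex.isStrictlyGE_mappingCone f a₁ a₂ _ (by omega) (by omega),
        isStrictlyLE_mappingCone f b₁ b₂ _ (by omega) (by omega)⟩
    · simp only [Iso.refl_hom, Category.comp_id, Category.id_comp]
      exact hf.symm⟩
  exact { toIsTriangulatedClosed₂ := .of_isTriangulatedClosed₃ }

end Groth.Agent.Lib.HtpyCat.Bounded
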