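import Mathlib.Algebra.Homology.HomotopyCategory.Pretriangulated
import Mathlib.Algebra.Homology.Embedding.CochainComplex

/-!
# Factorizations through mapping cylinders
-/

universe v u

open CategoryTheory Limits HomologicalComplex
open scoped ZeroObject

namespace Groth.Agent.Lib.HtpyCat.Cylinder

set_option backward.isDefEq.respectTransparency false

variable {V : Type u} [Category.{v} V] [Preadditive V] [HasBinaryBiproducts V] [HasZeroObject V]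

local notation "cone" => CochainComplex.mappingCone

lemma biprod_f_total (L M : CochainComplex V ℤ) (n : ℤ) :
    (biprod.fst : L ⊞ M ⟶ L).f n ≫ (biprod.inl : L ⟶ L ⊞ M).f n +
      (biprod.snd : L ⊞ M ⟶ M).f n ≫ (biprod.inr : M ⟶ L ⊞ M).f n = 𝟙 ((L ⊞ M).X n) := by
  rw [← comp_f, ← comp_f, ← add_f_apply, biprod.total, id_f]

lemma isStrictlyGE_biprod (L M : CochainComplex V ℤ) (a : ℤ) [L.IsStrictlyGE a] [M.IsStrictlyGE a] :
    (L ⊞ M).IsStrictlyGE a := by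
  rw [CochainComplex.isStrictlyGE_iff]
  intro i hi
  rw [IsZero.iff_id_eq_zero, ← biprod_f_total]
  simp [(L.isZero_of_isStrictlyGE a i).eq_of_tgt ((biprod.fst : L ⊞ M ⟶ L).f i) 0,
    (M.isZero_of_isStrictlyGE a i).eq_of_tgt ((biprod.snd : L ⊞ M ⟶ M).f i) 0]

lemma isStrictlyLE_biprod (L M : CochainComplex V ℤ) (a : ℤ) [L.IsStrictlyLE a] [M.IsStrictlyLE a] :
    (L ⊞ M).IsStrictlyLE a := by
  rw [CochainComplex.isStrictlyLE_iff]
  intro i hi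
  rw [IsZero.iff_id_eq_zero, ← biprod_f_total]
  simp [(L.isZero_of_isStrictlyLE a i).eq_of_tgt ((biprod.fst : L ⊞ M ⟶ L).f i) 0,
    (M.isZero_of_isStrictlyLE a i).eq_of_tgt ((biprod.snd : L ⊞ M ⟶ M).f i) 0]

lemma cone_isStrictlyGE {K L : CochainComplex V ℤ} (f : K ⟶ L) (a : ℤ) [K.IsStrictlyGE a]
    [L.IsStrictlyGE a] : (cone f).IsStrictlyGE (a - 1) := by
  rw [CochainComplex.isStrictlyGE_iff]
  intro i hi
  rw [CochainComplex.mappingCone.isZero_X_iff]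
  exact ⟨K.isZero_of_isStrictlyGE a _ (by omega), L.isZero_of_isStrictlyGE a _ (by omega)⟩

lemma cone_isStrictlyLE {K L : CochainComplex V ℤ} (f : K ⟶ L) (a : ℤ) [K.IsStrictlyLE a]
    [L.IsStrictlyLE a] : (cone f).IsStrictlyLE a := by
  rw [CochainComplex.isStrictlyLE_iff]
  intro i hi
  rw [CochainComplex.mappingCone.isZero_X_iff]
  exact ⟨K.isZero_of_isStrictlyLE a _ (by omega), L.isZero_of_isStrictlyLE a _ (by omega)⟩

/-- The homotopy equivalence to a summand with contractible complement. -/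
noncomputable def homotopyOfContractible (L M : CochainComplex V ℤ) (h : Homotopy (𝟙 M) 0) :
    Homotopy ((biprod.fst : L ⊞ M ⟶ L) ≫ biprod.inl) (𝟙 (L ⊞ M)) := by
  refine ((Homotopy.ofEq biprod.total.symm).trans ((Homotopy.add (Homotopy.refl _) ?_).trans
    (Homotopy.ofEq (add_zero _)))).symm
  exact (Homotopy.ofEq (by simp)).trans (((h.compLeft biprod.snd).compRight biprod.inr).trans
    (Homotopy.ofEq (by simp)))

theorem exists_factor_inj (K L : CochainComplex V ℤ) (α : K ⟶ L) :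
    ∃ (L' : CochainComplex V ℤ) (α' : K ⟶ L') (π : L' ⟶ L) (s : L ⟶ L'),
      α' ≫ π = α ∧ s ≫ π = 𝟙 L ∧ Nonempty (Homotopy (π ≫ s) (𝟙 L')) ∧
      (∀ n : ℤ, ∃ (C : V) (e : L'.X n ≅ K.X n ⊞ C), α'.f n ≫ e.hom = biprod.inl) ∧
      (∀ a : ℤ, K.IsStrictlyGE a → L.IsStrictlyGE a → ∃ a' : ℤ, L'.IsStrictlyGE a') ∧
      (∀ a : ℤ, K.IsStrictlyLE a → L.IsStrictlyLE a → ∃ a' : ℤ, L'.IsStrictlyLE a') := by
  let M : CochainComplex V ℤ := cone (𝟙 K)
  let u : K ⟶ M := CochainComplex.mappingCone.inr (𝟙 K)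
  refine ⟨L ⊞ M, biprod.lift α u, biprod.fst, biprod.inl, by simp, by simp,
    ⟨homotopyOfContractible L M (CochainComplex.mappingCone.homotopyToZeroOfId K)⟩, fun n => ?_,
    fun a ha ha' => ⟨a - 1, ?_⟩, fun a ha ha' => ⟨a, ?_⟩⟩
  · let i : M.X n ⟶ K.X (n + 1) := (CochainComplex.mappingCone.fst (𝟙 K)).1.v n (n + 1) rfl
    let j : K.X (n + 1) ⟶ M.X n := (CochainComplex.mappingCone.inl (𝟙 K)).v (n + 1) n (by omega)
    let r : M.X n ⟶ K.X n := (CochainComplex.mappingCone.snd (𝟙 K)).v n n (add_zero n)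
    have hij : j ≫ i = 𝟙 _ := by simp [i, j]
    have hjr : j ≫ r = 0 := by simp [r, j]
    have hui : u.f n ≫ i = 0 := by simp [u, i]
    have hur : u.f n ≫ r = 𝟙 _ := by simp [u, r]
    have hid : i ≫ j + r ≫ u.f n = 𝟙 _ := CochainComplex.mappingCone.id_X (𝟙 K) n (n + 1) rfl
    let p₁ : (L ⊞ M).X n ⟶ L.X n := (biprod.fst : L ⊞ M ⟶ L).f n
    let p₂ : (L ⊞ M).X n ⟶ M.X n := (biprod.snd : L ⊞ M ⟶ M).f n
    let q₁ : L.X n ⟶ (L ⊞ M).X n := (biprod.inl : L ⟶ L ⊞ M).f n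
    let q₂ : M.X n ⟶ (L ⊞ M).X n := (biprod.inr : M ⟶ L ⊞ M).f n
    let a' : K.X n ⟶ (L ⊞ M).X n := (biprod.lift α u).f n
    have h11 : q₁ ≫ p₁ = 𝟙 _ := by simp [q₁, p₁, ← comp_f]
    have h12 : q₁ ≫ p₂ = 0 := by simp [q₁, p₂, ← comp_f]
    have h21 : q₂ ≫ p₁ = 0 := by simp [q₂, p₁, ← comp_f]
    have h22 : q₂ ≫ p₂ = 𝟙 _ := by simp [q₂, p₂, ← comp_f]
    have ha1 : a' ≫ p₁ = α.f n := by simp [a', p₁, ← comp_f]
    have ha2 : a' ≫ p₂ = u.f n := by simp [a', p₂, ← comp_f]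
    have htot : p₁ ≫ q₁ + p₂ ≫ q₂ = 𝟙 _ := biprod_f_total L M n
    refine ⟨L.X n ⊞ K.X (n + 1),
      ⟨biprod.lift (p₂ ≫ r) (biprod.lift (p₁ - p₂ ≫ r ≫ α.f n) (p₂ ≫ i)),
        biprod.desc a' (biprod.desc q₁ (j ≫ q₂)), ?_, ?_⟩, ?_⟩
    · have hadec : a' = α.f n ≫ q₁ + u.f n ≫ q₂ := by
        rw [← Category.comp_id a', ← htot, Preadditive.comp_add, reassoc_of% ha1, reassoc_of% ha2]
      simp only [biprod.lift_desc, hadec, Preadditive.comp_add, Preadditive.sub_comp,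
        Category.assoc]
      have h2 : p₂ ≫ r ≫ u.f n ≫ q₂ + p₂ ≫ i ≫ j ≫ q₂ = p₂ ≫ q₂ := by
        rw [← Preadditive.comp_add, ← Category.assoc r, ← Category.assoc i,
          ← Preadditive.add_comp, add_comm, hid, Category.id_comp]
      conv_rhs => rw [← htot, ← h2]
      abel
    · ext <;> simp [reassoc_of% ha1, reassoc_of% ha2, reassoc_of% h11, reassoc_of% h12,
        reassoc_of% h21, reassoc_of% h22, hij, hjr, hui, hur, ha1, ha2, h11, h12, h21, h22,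
        reassoc_of% hij, reassoc_of% hjr, reassoc_of% hur, reassoc_of% hui]
    · change a' ≫ _ = _
      ext <;> simp [reassoc_of% ha1, reassoc_of% ha2, ha1, ha2, hui, hur, reassoc_of% hur]
  · have := cone_isStrictlyGE (𝟙 K) a
    have : L.IsStrictlyGE (a - 1) := L.isStrictlyGE_of_ge (a - 1) a (by omega)
    exact isStrictlyGE_biprod L M (a - 1)
  · have := cone_isStrictlyLE (𝟙 K) a
    exact isStrictlyLE_biprod L M a

theorem exists_factor_surj (K L : CochainComplex V ℤ) (α : K ⟶ L) :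
    ∃ (K' : CochainComplex V ℤ) (i : K ⟶ K') (α' : K' ⟶ L) (s : K' ⟶ K),
      i ≫ α' = α ∧ i ≫ s = 𝟙 K ∧ Nonempty (Homotopy (s ≫ i) (𝟙 K')) ∧
      (∀ n : ℤ, ∃ (C : V) (e : K'.X n ≅ C ⊞ L.X n), e.inv ≫ α'.f n = biprod.snd) ∧
      (∀ a : ℤ, K.IsStrictlyGE a → L.IsStrictlyGE a → ∃ a' : ℤ, K'.IsStrictlyGE a') ∧
      (∀ a : ℤ, K.IsStrictlyLE a → L.IsStrictlyLE a → ∃ a' : ℤ, K'.IsStrictlyLE a') := by
  let L₁ : CochainComplex V ℤ := L⟦(-1 : ℤ)⟧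
  let M : CochainComplex V ℤ := cone (𝟙 L₁)
  let u : L₁⟦(1 : ℤ)⟧ ⟶ L := (shiftFunctorCompIsoId (CochainComplex V ℤ) (-1 : ℤ) 1 (by omega)).hom.app L
  let p : M ⟶ L := (CochainComplex.mappingCone.triangle (𝟙 L₁)).mor₃ ≫ u
  refine ⟨K ⊞ M, biprod.inl, biprod.desc α p, biprod.fst, by simp, by simp,
    ⟨homotopyOfContractible K M (CochainComplex.mappingCone.homotopyToZeroOfId L₁)⟩, fun n => ?_,
    fun a ha ha' => ⟨a, ?_⟩, fun a ha ha' => ⟨a + 1, ?_⟩⟩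
  · let i₀ : M.X n ⟶ L₁.X (n + 1) := (CochainComplex.mappingCone.fst (𝟙 L₁)).1.v n (n + 1) rfl
    let j₀ : L₁.X (n + 1) ⟶ M.X n := (CochainComplex.mappingCone.inl (𝟙 L₁)).v (n + 1) n (by omega)
    let r : M.X n ⟶ L₁.X n := (CochainComplex.mappingCone.snd (𝟙 L₁)).v n n (add_zero n)
    let w : L₁.X n ⟶ M.X n := (CochainComplex.mappingCone.inr (𝟙 L₁)).f n
    let c : L₁.X (n + 1) ≅ L.X n :=
      asIso (show L₁.X (n + 1) ⟶ L.X n from u.f n)
    let pn : M.X n ⟶ L.X n := p.f n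
    let j : L.X n ⟶ M.X n := -(c.inv ≫ j₀)
    have hp : pn = -(i₀ ≫ c.hom) := by
      change (p.f n : M.X n ⟶ L.X n) = _
      simp only [p, comp_f, CochainComplex.mappingCone.triangle]
      simp [i₀, c, CochainComplex.HomComplex.Cochain.rightShift_v _ 1 0 (zero_add 1) n n (add_zero n) (n + 1) rfl]
    have hjp : j ≫ pn = 𝟙 _ := by simp [hp, j, j₀, i₀]
    have hjr : j ≫ r = 0 := by simp [j, j₀, r]
    have hwp : w ≫ pn = 0 := by simp [hp, w, i₀]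
    have hwr : w ≫ r = 𝟙 _ := by simp [w, r]
    have hid : pn ≫ j + r ≫ w = 𝟙 _ := by
      rw [hp]
      simp only [j, Preadditive.neg_comp, Preadditive.comp_neg, neg_neg, Category.assoc,
        Iso.hom_inv_id_assoc]
      exact CochainComplex.mappingCone.id_X (𝟙 L₁) n (n + 1) rfl
    let p₁ : (K ⊞ M).X n ⟶ K.X n := (biprod.fst : K ⊞ M ⟶ K).f n
    let p₂ : (K ⊞ M).X n ⟶ M.X n := (biprod.snd : K ⊞ M ⟶ M).f n
    let q₁ : K.X n ⟶ (K ⊞ M).X n := (biprod.inl : K ⟶ K ⊞ M).f n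
    let q₂ : M.X n ⟶ (K ⊞ M).X n := (biprod.inr : M ⟶ K ⊞ M).f n
    let a' : (K ⊞ M).X n ⟶ L.X n := (biprod.desc α p).f n
    have h11 : q₁ ≫ p₁ = 𝟙 _ := by simp [q₁, p₁, ← comp_f]
    have h12 : q₁ ≫ p₂ = 0 := by simp [q₁, p₂, ← comp_f]
    have h21 : q₂ ≫ p₁ = 0 := by simp [q₂, p₁, ← comp_f]
    have h22 : q₂ ≫ p₂ = 𝟙 _ := by simp [q₂, p₂, ← comp_f]
    have ha1 : q₁ ≫ a' = α.f n := by simp [a', q₁, ← comp_f]
    have ha2 : q₂ ≫ a' = pn := by simp [a', q₂, pn, ← comp_f]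
    have htot : p₁ ≫ q₁ + p₂ ≫ q₂ = 𝟙 _ := biprod_f_total K M n
    refine ⟨K.X n ⊞ L₁.X n,
      ⟨biprod.lift (biprod.lift p₁ (p₂ ≫ r)) a',
        biprod.desc (biprod.desc (q₁ - α.f n ≫ j ≫ q₂) (w ≫ q₂)) (j ≫ q₂), ?_, ?_⟩, ?_⟩
    · have hadec : a' = p₁ ≫ α.f n + p₂ ≫ pn := by
        rw [← Category.id_comp a', ← htot, Preadditive.add_comp, Category.assoc, Category.assoc,
          ha1, ha2]
      simp only [biprod.lift_desc, hadec, Preadditive.add_comp, Preadditive.comp_sub,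
        Category.assoc]
      have h2 : p₂ ≫ r ≫ w ≫ q₂ + p₂ ≫ pn ≫ j ≫ q₂ = p₂ ≫ q₂ := by
        rw [← Preadditive.comp_add, ← Category.assoc r, ← Category.assoc pn,
          ← Preadditive.add_comp, add_comm, hid, Category.id_comp]
      conv_rhs => rw [← htot, ← h2]
      abel
    · ext <;> simp [reassoc_of% h11, reassoc_of% h12, reassoc_of% h21, reassoc_of% h22,
        ha1, ha2, h11, h12, h21, h22, hjp, hjr, hwp, hwr]
    · change _ ≫ a' = _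
      ext <;> simp [ha1, ha2, hjp, hwp]
  · have : L₁.IsStrictlyGE (a + 1) := L.isStrictlyGE_shift a (-1) (a + 1) (by omega)
    have : M.IsStrictlyGE a := by
      have := cone_isStrictlyGE (𝟙 L₁) (a + 1)
      exact M.isStrictlyGE_of_ge a (a + 1 - 1) (by omega)
    exact isStrictlyGE_biprod K M a
  · have : L₁.IsStrictlyLE (a + 1) := L.isStrictlyLE_shift a (-1) (a + 1) (by omega)
    have : M.IsStrictlyLE (a + 1) := cone_isStrictlyLE (𝟙 L₁) (a + 1)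
    have : K.IsStrictlyLE (a + 1) := K.isStrictlyLE_of_le a (a + 1) (by omega)
    exact isStrictlyLE_biprod K M (a + 1)

/-- A step in the ladder construction. -/
theorem exists_ladder (X : ℕ → CochainComplex V ℤ) (a : ∀ i, X i ⟶ X (i + 1)) :
    ∃ (B : ℕ → CochainComplex V ℤ) (b : ∀ i, B i ⟶ B (i + 1)) (e : ∀ i, HomotopyEquiv (B i) (X i)),
      (∀ i, b i ≫ (e (i + 1)).hom = (e i).hom ≫ a i) ∧
      (∀ (i : ℕ) (n : ℤ), ∃ (C : V) (ε : (B (i + 1)).X n ≅ (B i).X n ⊞ C), (b i).f n ≫ ε.hom = biprod.inl) ∧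
      ((∀ i, ∃ m : ℤ, (X i).IsStrictlyGE m) → ∀ i, ∃ m : ℤ, (B i).IsStrictlyGE m) ∧
      ((∀ i, ∃ m : ℤ, (X i).IsStrictlyLE m) → ∀ i, ∃ m : ℤ, (B i).IsStrictlyLE m) := by
  have hstep : ∀ i (B : CochainComplex V ℤ) (e : HomotopyEquiv B (X i)),
      ∃ (B' : CochainComplex V ℤ) (e' : HomotopyEquiv B' (X (i + 1))) (b : B ⟶ B'),
        b ≫ e'.hom = e.hom ≫ a i ∧
        (∀ n : ℤ, ∃ (C : V) (ε : B'.X n ≅ B.X n ⊞ C), b.f n ≫ ε.hom = biprod.inl) ∧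
        (∀ m, B.IsStrictlyGE m → (X (i + 1)).IsStrictlyGE m → ∃ m' : ℤ, B'.IsStrictlyGE m') ∧
        (∀ m, B.IsStrictlyLE m → (X (i + 1)).IsStrictlyLE m → ∃ m' : ℤ, B'.IsStrictlyLE m') := by
    intro i B e
    obtain ⟨L', α', π, s, h₁, h₂, ⟨h₃⟩, h₄, h₅, h₆⟩ := exists_factor_inj B (X (i + 1)) (e.hom ≫ a i)
    exact ⟨L', ⟨π, s, h₃, Homotopy.ofEq h₂⟩, α', h₁, h₄, h₅, h₆⟩
  choose B' e' b' hb₁ hb₂ hb₃ hb₄ using hstep
  let F : ∀ i, Σ B : CochainComplex V ℤ, HomotopyEquiv B (X i) :=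
    Nat.rec ⟨X 0, HomotopyEquiv.refl _⟩ (fun i p => ⟨B' i p.1 p.2, e' i p.1 p.2⟩)
  refine ⟨fun i => (F i).1, fun i => b' i (F i).1 (F i).2, fun i => (F i).2,
    fun i => hb₁ i _ _, fun i n => hb₂ i _ _ n, fun h i => ?_, fun h i => ?_⟩
  · induction i with
    | zero => exact h 0
    | succ i ih =>
      obtain ⟨m, hm⟩ := ih
      obtain ⟨m', hm'⟩ := h (i + 1)
      exact hb₃ i _ _ (min m m') (CochainComplex.isStrictlyGE_of_ge _ _ m (min_le_left m m'))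
        (CochainComplex.isStrictlyGE_of_ge _ _ m' (min_le_right m m'))
  · induction i with
    | zero => exact h 0
    | succ i ih =>
      obtain ⟨m, hm⟩ := ih
      obtain ⟨m', hm'⟩ := h (i + 1)
      exact hb₄ i _ _ (max m m') (CochainComplex.isStrictlyLE_of_le _ m _ (le_max_left m m'))
        (CochainComplex.isStrictlyLE_of_le _ m' _ (le_max_right m m'))

end Groth.Agent.Lib.HtpyCat.Cylinder
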