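import Mathlib.Algebra.Homology.DerivedCategory.Basic
import Mathlib.Algebra.Homology.DerivedCategory.Fractions
import Mathlib.Algebra.Homology.HomotopyCategory.Plus
import Mathlib.Algebra.Homology.Embedding.CochainComplex

/-!
# Roofs of bounded complexes
-/

universe w v u

open CategoryTheory Limits HomologicalComplex DerivedCategory

namespace Groth.Agent.Lib.HtpyCat.Roofs

set_option backward.isDefEq.respectTransparency false

variable {A : Type u} [Category.{v} A] [Abelian A]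

local notation "KA" => HomotopyCategory A (ComplexShape.up ℤ)
local notation "qK" => HomotopyCategory.quotient A (ComplexShape.up ℤ)
local notation "qis" => HomotopyCategory.quasiIso A (ComplexShape.up ℤ)

lemma isLE_of_qis {K K' : KA} (s : K' ⟶ K) (hs : qis s) (a : ℤ)
    [CochainComplex.IsStrictlyLE K.as a] : CochainComplex.IsLE K'.as a := by
  obtain ⟨f, rfl⟩ : ∃ f : K'.as ⟶ K.as, (qK).map f = s := (qK).map_surjective s
  rw [HomotopyCategory.quotient_map_mem_quasiIso_iff] at hs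
  have hf : QuasiIso f := hs
  rw [CochainComplex.isLE_iff]
  intro i hi
  have : QuasiIsoAt f i := inferInstance
  rw [exactAt_iff_of_quasiIsoAt f]
  exact (CochainComplex.isZero_of_isStrictlyLE K.as a i hi) |> ShortComplex.exact_of_isZero_X₂ _

lemma isGE_of_qis {K K' : KA} (s : K ⟶ K') (hs : qis s) (a : ℤ)
    [CochainComplex.IsStrictlyGE K.as a] : CochainComplex.IsGE K'.as a := by
  obtain ⟨f, rfl⟩ : ∃ f : K.as ⟶ K'.as, (qK).map f = s := (qK).map_surjective s
  rw [HomotopyCategory.quotient_map_mem_quasiIso_iff] at hs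
  have hf : QuasiIso f := hs
  rw [CochainComplex.isGE_iff]
  intro i hi
  have : QuasiIsoAt f i := inferInstance
  rw [← exactAt_iff_of_quasiIsoAt f]
  exact (CochainComplex.isZero_of_isStrictlyGE K.as a i hi) |> ShortComplex.exact_of_isZero_X₂ _

lemma isLE_of_qis' {K K' : KA} (s : K ⟶ K') (hs : qis s) (a : ℤ)
    [CochainComplex.IsStrictlyLE K.as a] : CochainComplex.IsLE K'.as a := by
  obtain ⟨f, rfl⟩ : ∃ f : K.as ⟶ K'.as, (qK).map f = s := (qK).map_surjective s
  rw [HomotopyCategory.quotient_map_mem_quasiIso_iff] at hs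
  have hf : QuasiIso f := hs
  rw [CochainComplex.isLE_iff]
  intro i hi
  have : QuasiIsoAt f i := inferInstance
  rw [← exactAt_iff_of_quasiIsoAt f]
  exact (CochainComplex.isZero_of_isStrictlyLE K.as a i hi) |> ShortComplex.exact_of_isZero_X₂ _

lemma ιTruncLE_mem (K : CochainComplex A ℤ) (a : ℤ) [K.IsLE a] :
    qis ((qK).map (K.ιTruncLE a)) := by
  rw [HomotopyCategory.quotient_map_mem_quasiIso_iff]
  exact (mem_quasiIso_iff _).2 inferInstance

lemma πTruncGE_mem (K : CochainComplex A ℤ) (a : ℤ) [K.IsGE a] :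
    qis ((qK).map (K.πTruncGE a)) := by
  rw [HomotopyCategory.quotient_map_mem_quasiIso_iff]
  exact (mem_quasiIso_iff _).2 inferInstance

/-- Lifting through a canonical truncation, compatibly with homotopies. -/
lemma exists_lift {K M : CochainComplex A ℤ} (N : ℤ) [K.IsStrictlyLE N]
    (g : (qK).obj K ⟶ (qK).obj M) :
    ∃ g' : (qK).obj K ⟶ (qK).obj (M.truncLE N), g' ≫ (qK).map (M.ιTruncLE N) = g := by
  obtain ⟨f, rfl⟩ := (qK).map_surjective g
  refine ⟨(qK).map (inv (K.ιTruncLE N) ≫ CochainComplex.truncLEMap f N), ?_⟩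
  rw [← Functor.map_comp, Category.assoc, CochainComplex.ιTruncLE_naturality,
    IsIso.inv_hom_id_assoc]

lemma lift_unique {K M : CochainComplex A ℤ} (N : ℤ) [K.IsStrictlyLE N]
    (g₁ g₂ : (qK).obj K ⟶ (qK).obj (M.truncLE N))
    (h : g₁ ≫ (qK).map (M.ιTruncLE N) = g₂ ≫ (qK).map (M.ιTruncLE N)) : g₁ = g₂ := by
  obtain ⟨f₁, rfl⟩ := (qK).map_surjective g₁
  obtain ⟨f₂, rfl⟩ := (qK).map_surjective g₂
  rw [← Functor.map_comp, ← Functor.map_comp] at h
  let H := HomotopyCategory.homotopyOfEq _ _ h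
  have hc : ∀ j : ℤ, ∃ i, (ComplexShape.up ℤ).Rel i j := fun n => ⟨n - 1, by simp⟩
  let D := cylinder.desc _ _ H
  have hcyl : CochainComplex.IsStrictlyLE (cylinder K) N := by
    rw [CochainComplex.isStrictlyLE_iff]
    intro i hi
    dsimp [cylinder]
    refine homotopyCofiber.isZero_X _ _ ?_ (fun j hj ↦ ?_)
    · refine IsZero.of_iso ?_ ((HomologicalComplex.eval A (.up ℤ) i).mapBiprod _ _)
      simpa using K.isZero_of_isStrictlyLE N i
    · simp only [ComplexShape.up_Rel] at hj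
      exact K.isZero_of_isStrictlyLE N _ (by omega)
  have : Mono (M.ιTruncLE N) := by dsimp [CochainComplex.ιTruncLE]; infer_instance
  let D' := inv (CochainComplex.ιTruncLE (cylinder K) N) ≫ CochainComplex.truncLEMap D N
  have hD : D' ≫ M.ιTruncLE N = D := by
    simp only [D', Category.assoc, CochainComplex.ιTruncLE_naturality, IsIso.inv_hom_id_assoc]
  have e₁ : cylinder.ι₀ K ≫ D' = f₁ := by
    rw [← cancel_mono (M.ιTruncLE N), Category.assoc, hD, cylinder.ι₀_desc]
  have e₂ : cylinder.ι₁ K ≫ D' = f₂ := by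
    rw [← cancel_mono (M.ιTruncLE N), Category.assoc, hD, cylinder.ι₁_desc]
  rw [← e₁, ← e₂]
  simp only [Functor.map_comp]
  rw [HomotopyCategory.eq_of_homotopy _ _ (cylinder.homotopy₀₁ K hc)]

variable [HasDerivedCategory.{w} A]

theorem left_roofs (K L : KA) (a : ℤ) [CochainComplex.IsStrictlyLE K.as a] :
    (∀ φ : Qh.obj K ⟶ Qh.obj L,
      ∃ (K' : KA) (n : ℤ) (_ : CochainComplex.IsStrictlyLE K'.as n) (s : K' ⟶ K) (f : K' ⟶ L),
        qis s ∧ Qh.map s ≫ φ = Qh.map f) ∧
    (∀ f₁ f₂ : K ⟶ L, Qh.map f₁ = Qh.map f₂ →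
      ∃ (K' : KA) (n : ℤ) (_ : CochainComplex.IsStrictlyLE K'.as n) (s : K' ⟶ K),
        qis s ∧ s ≫ f₁ = s ≫ f₂) := by
  constructor
  · intro φ
    obtain ⟨ψ, hψ⟩ := CategoryTheory.Localization.exists_rightFraction Qh qis φ
    have := isLE_of_qis ψ.s ψ.hs a
    let ι : (qK).obj (CochainComplex.truncLE ψ.X'.as a) ⟶ ψ.X' := (qK).map (CochainComplex.ιTruncLE ψ.X'.as a)
    refine ⟨(qK).obj (CochainComplex.truncLE ψ.X'.as a), a,
      inferInstanceAs (CochainComplex.IsStrictlyLE (CochainComplex.truncLE ψ.X'.as a) a), ι ≫ ψ.s, ι ≫ ψ.f,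
      MorphismProperty.comp_mem _ _ _ (ιTruncLE_mem _ a) ψ.hs, ?_⟩
    rw [hψ, Functor.map_comp, Category.assoc, MorphismProperty.RightFraction.map_s_comp_map,
      ← Functor.map_comp]
  · intro f₁ f₂ h
    obtain ⟨K'', s, hs, eq⟩ := (MorphismProperty.map_eq_iff_precomp Qh qis f₁ f₂).1 h
    have := isLE_of_qis s hs a
    let ι : (qK).obj (CochainComplex.truncLE K''.as a) ⟶ K'' := (qK).map (CochainComplex.ιTruncLE K''.as a)
    exact ⟨(qK).obj (CochainComplex.truncLE K''.as a), a,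
      inferInstanceAs (CochainComplex.IsStrictlyLE (CochainComplex.truncLE K''.as a) a), ι ≫ s,
      MorphismProperty.comp_mem _ _ _ (ιTruncLE_mem _ a) hs, by simp [eq]⟩

/-- Bounded replacement of the target of a quasi-isomorphism. -/
lemma exists_bounded {L L'' : KA} (t : L ⟶ L'') (ht : qis t) (a' b' N : ℤ) (hN : b' ≤ N)
    [CochainComplex.IsStrictlyGE L.as a'] [CochainComplex.IsStrictlyLE L.as b'] :
    ∃ (L' : KA) (m : ℤ) (_ : CochainComplex.IsStrictlyGE L'.as m)
      (_ : CochainComplex.IsStrictlyLE L'.as N) (t' : L ⟶ L') (M : KA) (p : L'' ⟶ M) (i : L' ⟶ M),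
      qis t' ∧ qis i ∧ qis p ∧ t' ≫ i = t ≫ p ∧
      (∀ (K : KA) [CochainComplex.IsStrictlyLE K.as N] (g : K ⟶ M), ∃ g' : K ⟶ L', g' ≫ i = g) ∧
      (∀ (K : KA) [CochainComplex.IsStrictlyLE K.as N] (g₁ g₂ : K ⟶ L'),
        g₁ ≫ i = g₂ ≫ i → g₁ = g₂) := by
  have := isGE_of_qis t ht a'
  let p : L'' ⟶ (qK).obj (CochainComplex.truncGE L''.as a') := (qK).map (CochainComplex.πTruncGE L''.as a')
  have hp : qis p := πTruncGE_mem _ a'
  have htp : qis (t ≫ p) := MorphismProperty.comp_mem _ _ _ ht hp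
  let M : CochainComplex A ℤ := CochainComplex.truncGE L''.as a'
  have : CochainComplex.IsStrictlyLE L.as N := CochainComplex.isStrictlyLE_of_le L.as b' N hN
  have : M.IsLE N := isLE_of_qis' (K' := (qK).obj M) (t ≫ p) htp N
  obtain ⟨t', ht'⟩ := exists_lift (K := L.as) (M := M) N (t ≫ p)
  refine ⟨(qK).obj (M.truncLE N), a',
    inferInstanceAs (CochainComplex.IsStrictlyGE (M.truncLE N) a'),
    inferInstanceAs (CochainComplex.IsStrictlyLE (M.truncLE N) N), t', (qK).obj M, p,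
    (qK).map (M.ιTruncLE N), ?_, ιTruncLE_mem M N, hp, ht', fun K _ g => ?_, fun K _ g₁ g₂ h => ?_⟩
  · intro n
    have := ιTruncLE_mem M N n
    have h2 : IsIso ((HomotopyCategory.homologyFunctor A _ n).map t' ≫
        (HomotopyCategory.homologyFunctor A _ n).map ((qK).map (M.ιTruncLE N))) := by
      rw [← Functor.map_comp, ht']; exact htp n
    exact IsIso.of_isIso_comp_right _
      ((HomotopyCategory.homologyFunctor A _ n).map ((qK).map (M.ιTruncLE N)))
  · exact exists_lift (K := K.as) N g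
  · exact lift_unique (K := K.as) N g₁ g₂ h

theorem right_roofs (K L : KA) (b a' b' : ℤ) [CochainComplex.IsStrictlyLE K.as b]
    [CochainComplex.IsStrictlyGE L.as a'] [CochainComplex.IsStrictlyLE L.as b'] :
    (∀ φ : Qh.obj K ⟶ Qh.obj L,
      ∃ (L' : KA) (m n : ℤ) (_ : CochainComplex.IsStrictlyGE L'.as m)
        (_ : CochainComplex.IsStrictlyLE L'.as n) (f : K ⟶ L') (t : L ⟶ L'),
        qis t ∧ φ ≫ Qh.map t = Qh.map f) ∧
    (∀ f₁ f₂ : K ⟶ L, Qh.map f₁ = Qh.map f₂ →
      ∃ (L' : KA) (m n : ℤ) (_ : CochainComplex.IsStrictlyGE L'.as m)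
        (_ : CochainComplex.IsStrictlyLE L'.as n) (t : L ⟶ L'),
        qis t ∧ f₁ ≫ t = f₂ ≫ t) := by
  have hK : CochainComplex.IsStrictlyLE K.as (max b b') :=
    CochainComplex.isStrictlyLE_of_le K.as b _ (le_max_left b b')
  constructor
  · intro φ
    obtain ⟨ψ, hψ⟩ := CategoryTheory.Localization.exists_leftFraction Qh qis φ
    obtain ⟨L', m, hm, hn, t, M, p, i, ht, hi, -, e, hlift, -⟩ :=
      exists_bounded ψ.s ψ.hs a' b' (max b b') (le_max_right b b')
    obtain ⟨f, hf⟩ := hlift K (ψ.f ≫ p)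
    refine ⟨L', m, _, hm, hn, f, t, ht, ?_⟩
    have : IsIso (Qh.map i) := Localization.inverts Qh qis i hi
    rw [← cancel_mono (Qh.map i), Category.assoc, ← Functor.map_comp, e, ← Functor.map_comp, hf,
      hψ, Functor.map_comp, MorphismProperty.LeftFraction.map_comp_map_s_assoc, ← Functor.map_comp]
  · intro f₁ f₂ h
    obtain ⟨L'', s, hs, eq⟩ := (MorphismProperty.map_eq_iff_postcomp Qh qis f₁ f₂).1 h
    obtain ⟨L', m, hm, hn, t, M, p, i, ht, hi, -, e, -, huniq⟩ :=
      exists_bounded s hs a' b' (max b b') (le_max_right b b')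
    refine ⟨L', m, _, hm, hn, t, ht, huniq K _ _ ?_⟩
    rw [Category.assoc, Category.assoc, e, reassoc_of% eq]

end Groth.Agent.Lib.HtpyCat.Roofs
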